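import Groth.Agent.CompleteLib.Basic
import Mathlib.RingTheory.MvPolynomial.Homogeneous
import Mathlib.RingTheory.Polynomial.Basic
import Mathlib.RingTheory.AdicCompletion.Completeness

/-!
# Noetherianity of complete rings
-/

set_option autoImplicit false

namespace CompleteLib

universe u

open MvPolynomial

theorem homogeneousComponent_mul_isHomogeneous {σ R : Type*} [CommRing R] {F : MvPolynomial σ R}
    {d : ℕ} (hF : F.IsHomogeneous d) (H : MvPolynomial σ R) (n : ℕ) :
    homogeneousComponent n (H * F) =
      if d ≤ n then homogeneousComponent (n - d) H * F else 0 := by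
  have hterm : ∀ i, homogeneousComponent n (homogeneousComponent i H * F) =
      if i + d = n then homogeneousComponent i H * F else 0 := fun i => by
    rw [homogeneousComponent_of_mem
      ((mem_homogeneousSubmodule _ _).mpr ((homogeneousComponent_isHomogeneous i H).mul hF))]
    exact if_congr eq_comm rfl rfl
  have hsum : homogeneousComponent n (H * F) = ∑ i ∈ Finset.range (H.totalDegree + 1),
      if i + d = n then homogeneousComponent i H * F else 0 := by
    conv_lhs => rw [← sum_homogeneousComponent H, Finset.sum_mul, map_sum]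
    exact Finset.sum_congr rfl fun i _ => hterm i
  rw [hsum]
  split_ifs with h
  · rw [Finset.sum_eq_single (n - d) (fun i _ hi => if_neg (by omega)) (fun hi => ?_),
      if_pos (by omega)]
    rw [if_pos (by omega), homogeneousComponent_eq_zero _ _ (by
      rw [Finset.mem_range] at hi; omega), zero_mul]
  · exact Finset.sum_eq_zero fun i _ => if_neg (by omega)

theorem map_homogeneousComponent' {σ R S : Type*} [CommRing R] [CommRing S] (f : R →+* S)
    (H : MvPolynomial σ R) (n : ℕ) :
    MvPolynomial.map f (homogeneousComponent n H) = homogeneousComponent n (MvPolynomial.map f H) := by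
  ext d
  simp only [coeff_map, coeff_homogeneousComponent]
  split_ifs <;> simp

variable {A : Type u} [CommRing A] (J : Ideal A)

/-- Initial forms: an ideal is approximated by finitely many of its elements. -/
theorem exists_initial_generators [IsNoetherianRing (A ⧸ J)] (hJ : J.FG) (a : Ideal A) :
    ∃ (r : ℕ) (g : Fin r → A) (D : ℕ), (∀ k, g k ∈ a) ∧
      ∀ n, a ⊓ J ^ n ≤ J ^ (n - D) • Submodule.span A (Set.range g) ⊔ (a ⊓ J ^ (n + 1)) := by
  classical
  obtain ⟨t, x, hx⟩ := Submodule.fg_iff_exists_fin_generating_family.mp hJ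
  let π := MvPolynomial.map (Ideal.Quotient.mk J) (σ := Fin t)
  let S : Set (MvPolynomial (Fin t) (A ⧸ J)) := {F | ∃ (n : ℕ) (f : MvPolynomial (Fin t) A),
    f.IsHomogeneous n ∧ π f = F ∧ ∃ y ∈ a, y - eval x f ∈ J ^ (n + 1)}
  obtain ⟨S', hS', hspan⟩ := (Submodule.fg_span_iff_fg_span_finset_subset S).mp
    (IsNoetherian.noetherian (Submodule.span (MvPolynomial (Fin t) (A ⧸ J)) S))
  choose d f hf hfF y hya hy using fun F : {F // F ∈ S'} => hS' F.2
  obtain ⟨r, e⟩ : ∃ r, Nonempty (Fin r ≃ {F // F ∈ S'}) :=
    ⟨_, ⟨(Fintype.equivFin _).symm⟩⟩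
  obtain ⟨e⟩ := e
  refine ⟨r, fun k => y (e k), Finset.univ.sup d, fun k => hya _, fun n z hz => ?_⟩
  obtain ⟨hza, hzn⟩ := hz
  obtain ⟨p, hp, hpz⟩ := (Ideal.mem_span_pow_iff_exists_isHomogeneous x z).mp
    (show z ∈ Ideal.span (Set.range x) ^ n by rwa [show Ideal.span (Set.range x) = J from hx])
  have hmem : π p ∈ Submodule.span (MvPolynomial (Fin t) (A ⧸ J)) (S' : Set (MvPolynomial (Fin t) (A ⧸ J))) :=
    hspan ▸ Submodule.subset_span ⟨n, p, hp, rfl, z, hza, by simp [hpz]⟩
  obtain ⟨H, -, hH⟩ := Submodule.mem_span_finset.mp hmem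
  choose h hh using fun F : {F // F ∈ S'} =>
    map_surjective (Ideal.Quotient.mk J) (σ := Fin t) Ideal.Quotient.mk_surjective (H F.1)
  let c : {F // F ∈ S'} → MvPolynomial (Fin t) A := fun F =>
    if d F ≤ n then homogeneousComponent (n - d F) (h F) else 0
  have hc : π p = π (∑ F, c F * f F) := by
    calc π p = homogeneousComponent n (π p) := (homogeneousComponent_eq_self (hp.map _)).symm
      _ = homogeneousComponent n (∑ F : {F // F ∈ S'}, π (h F) * π (f F)) := by
          congr 1
          rw [← hH, ← Finset.sum_coe_sort S']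
          exact Finset.sum_congr rfl fun F _ => by rw [hfF, hh]; rfl
      _ = π (∑ F, c F * f F) := by
          rw [map_sum, map_sum]
          refine Finset.sum_congr rfl fun F _ => ?_
          rw [homogeneousComponent_mul_isHomogeneous ((hf F).map _)]
          simp only [c]
          split_ifs <;> simp [π, map_homogeneousComponent', map_mul]
  have hrem : (p - ∑ F, c F * f F).IsHomogeneous n := by
    refine hp.sub (IsHomogeneous.sum _ _ _ fun F _ => ?_)
    simp only [c]
    split_ifs with hd
    · have := (homogeneousComponent_isHomogeneous (n - d F) (h F)).mul (hf F)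
      rwa [Nat.sub_add_cancel hd] at this
    · rw [zero_mul]; exact isHomogeneous_zero _ _ _
  have hremJ : eval x (p - ∑ F, c F * f F) ∈ J ^ (n + 1) := by
    rw [eval_eq]
    refine Submodule.sum_mem _ fun s hs => ?_
    have hcJ : coeff s (p - ∑ F, c F * f F) ∈ J := by
      rw [← Ideal.Quotient.eq_zero_iff_mem, ← coeff_map]
      show coeff s (π (p - ∑ F, c F * f F)) = 0
      rw [map_sub, hc, sub_self, coeff_zero]
    rw [pow_succ']
    refine Ideal.mul_mem_mul hcJ ?_
    have hmon := (Ideal.mem_span_pow_iff_exists_isHomogeneous x (∏ i ∈ s.support, x i ^ s i)).mpr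
      ⟨monomial s 1, isHomogeneous_monomial _ (show s.degree = n by
        by_contra hne; exact (mem_support_iff.mp hs) (hrem.coeff_eq_zero hne)), by
        simp [eval_monomial, Finsupp.prod]⟩
    rwa [show Ideal.span (Set.range x) = J from hx] at hmon
  have hcmem : ∀ F, eval x (c F) ∈ J ^ (n - Finset.univ.sup d) := fun F => by
    simp only [c]
    split_ifs
    · refine Ideal.pow_le_pow_right (Nat.sub_le_sub_left (Finset.le_sup (Finset.mem_univ F)) n) ?_
      have := (Ideal.mem_span_pow_iff_exists_isHomogeneous x _).mpr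
        ⟨_, homogeneousComponent_isHomogeneous (n - d F) (h F), rfl⟩
      rwa [show Ideal.span (Set.range x) = J from hx] at this
    · simp
  have herr : ∀ F, eval x (c F) * (y F - eval x (f F)) ∈ J ^ (n + 1) := fun F => by
    simp only [c]
    split_ifs with hd
    · have h1 := (Ideal.mem_span_pow_iff_exists_isHomogeneous x _).mpr
        ⟨_, homogeneousComponent_isHomogeneous (n - d F) (h F), rfl⟩
      rw [show Ideal.span (Set.range x) = J from hx] at h1
      have h2 := Ideal.mul_mem_mul h1 (hy F)
      rwa [← pow_add, show n - d F + (d F + 1) = n + 1 by omega] at h2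
    · simp
  refine Submodule.mem_sup.mpr ⟨∑ F, eval x (c F) * y F, Submodule.sum_mem _ fun F _ => ?_,
    z - ∑ F, eval x (c F) * y F,
    ⟨a.sub_mem hza (Submodule.sum_mem _ fun F _ => a.mul_mem_left _ (hya F)), ?_⟩, by abel⟩
  · exact Submodule.smul_mem_smul (hcmem F) (Submodule.subset_span ⟨e.symm F, by simp⟩)
  · have : z - ∑ F, eval x (c F) * y F =
        eval x (p - ∑ F, c F * f F) - ∑ F, eval x (c F) * (y F - eval x (f F)) := by
      simp only [mul_sub, Finset.sum_sub_distrib, map_sub, map_sum, map_mul, hpz]; abel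
    rw [this]
    exact sub_mem hremJ (Submodule.sum_mem _ fun F _ => herr F)

/-- A complete ring which is noetherian modulo a finitely generated ideal is noetherian. -/
theorem isNoetherianRing_of_isAdicComplete [IsAdicComplete J A] [IsNoetherianRing (A ⧸ J)]
    (hJ : J.FG) : IsNoetherianRing A := by
  refine (isNoetherianRing_iff_ideal_fg A).mpr fun a => ?_
  classical
  obtain ⟨r, g, D, hg, hstep⟩ := exists_initial_generators J hJ a
  suffices Submodule.span A (Set.range g) = a by
    rw [← this]; exact Submodule.fg_span (Set.finite_range g)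
  refine le_antisymm (Submodule.span_le.mpr (by rintro _ ⟨k, rfl⟩; exact hg k)) fun z hz => ?_
  have step : ∀ n w, w ∈ a ⊓ J ^ n →
      ∃ c : Fin r → A, (∀ k, c k ∈ J ^ (n - D)) ∧ w - ∑ k, c k • g k ∈ a ⊓ J ^ (n + 1) := by
    intro n w hw
    obtain ⟨u, hu, v, hv, rfl⟩ := Submodule.mem_sup.mp (hstep n hw)
    obtain ⟨c, hc, rfl⟩ := (mem_smul_span_iff_exists _ g u).mp hu
    exact ⟨c, hc, by rwa [add_sub_cancel_left]⟩
  choose! c hc hcz using step
  let s : ℕ → Fin r → A := fun n => Nat.rec (motive := fun _ => Fin r → A) 0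
    (fun n sn => sn + c n (z - ∑ k, sn k • g k)) n
  have hs : ∀ n, z - ∑ k, s n k • g k ∈ a ⊓ J ^ n := by
    intro n
    induction n with
    | zero => simpa [s] using hz
    | succ n ih =>
      have h1 := hcz n _ ih
      show z - ∑ k, (s n k + c n (z - ∑ k, s n k • g k) k) • g k ∈ _
      simpa only [add_smul, Finset.sum_add_distrib, sub_add_eq_sub_sub] using h1
  have hlim : ∀ k, ∃ L : A, ∀ j, L - s (j + D) k ∈ J ^ j := fun k => by
    obtain ⟨L, hL⟩ := exists_limit (I := J) (fun j => s (j + D) k) fun j => by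
      rw [smul_eq_mul, Ideal.mul_top]
      have h1 := hc (j + D) _ (hs (j + D)) k
      rw [Nat.add_sub_cancel] at h1
      show s (j + 1 + D) k - s (j + D) k ∈ J ^ j
      rw [show j + 1 + D = j + D + 1 by omega]
      simpa [s] using h1
    exact ⟨L, fun j => by simpa using hL j⟩
  choose L hL using hlim
  rw [show z = ∑ k, L k • g k from sub_eq_zero.mp (IsHausdorff.haus (I := J) inferInstance _ fun j => by
    rw [SModEq.sub_mem, sub_zero, smul_eq_mul, Ideal.mul_top,
      show z - ∑ k, L k • g k = (z - ∑ k, s (j + D) k • g k) - ∑ k, (L k - s (j + D) k) • g k by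
        simp only [sub_smul, Finset.sum_sub_distrib]; abel]
    exact sub_mem (Ideal.pow_le_pow_right (Nat.le_add_right j D) (hs (j + D)).2)
      (Submodule.sum_mem _ fun k _ => Ideal.mul_mem_right _ _ (hL k j)))]
  exact Submodule.sum_mem _ fun k _ => Submodule.smul_mem _ _ (Submodule.subset_span ⟨k, rfl⟩)

end CompleteLib
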