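import Groth.Agent.CompleteLib.Basic
import Mathlib.RingTheory.Filtration
import Mathlib.RingTheory.Ideal.Quotient.Operations

/-!
# Completeness for a second ideal
-/

set_option autoImplicit false

namespace CompleteLib

universe u

variable {A : Type u} [CommRing A] [IsNoetherianRing A]

theorem mem_of_forall_mem_sup_pow {M : Type*} [AddCommGroup M] [Module A M] [Module.Finite A M]
    {I : Ideal A} (hI : I ≤ (⊥ : Ideal A).jacobson) (S : Submodule A M) {x : M}
    (h : ∀ n, x ∈ S ⊔ I ^ n • ⊤) : x ∈ S := by
  have : IsHausdorff I (M ⧸ S) := IsHausdorff.of_le_jacobson I (M ⧸ S) hI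
  rw [← Submodule.Quotient.mk_eq_zero]
  refine eq_zero_of_forall_mem (I := I) fun n => ?_
  have h1 := Submodule.mem_map_of_mem (f := S.mkQ) (h n)
  rw [Submodule.map_sup, Submodule.map_smul'', Submodule.map_top, Submodule.range_mkQ,
    Submodule.mkQ_map_self, bot_sup_eq] at h1
  exact h1

variable (I J : Ideal A) [IsAdicComplete (J.map (Ideal.Quotient.mk I)) (A ⧸ I)]

theorem isPrecomplete_of_annihilated (M : Type u) [AddCommGroup M] [Module A M] [Module.Finite A M]
    (hM : I ≤ Module.annihilator A M) : IsPrecomplete J M := by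
  let : Module (A ⧸ I) M := Module.IsTorsionBySet.module (I := I) fun x a => by
    exact Module.mem_annihilator.mp (hM a.2) x
  have : IsScalarTower A (A ⧸ I) M := Module.IsTorsionBySet.isScalarTower _
  have : IsNoetherianRing (A ⧸ I) :=
    isNoetherianRing_of_surjective A (A ⧸ I) (Ideal.Quotient.mk I) Ideal.Quotient.mk_surjective
  have : Module.Finite (A ⧸ I) M := Module.Finite.of_restrictScalars_finite A (A ⧸ I) M
  have h : IsAdicComplete (J.map (algebraMap A (A ⧸ I))) M :=
    isAdicComplete_of_finite (A := A ⧸ I) (I := J.map (Ideal.Quotient.mk I))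
  exact (IsPrecomplete.map_algebraMap_iff (I := J) (S := A ⧸ I) (M := M)).mp h.toIsPrecomplete

theorem isPrecomplete_of_pow_annihilated : ∀ (n : ℕ) (M : Type u) [AddCommGroup M] [Module A M]
    [Module.Finite A M], (I ^ n • ⊤ : Submodule A M) = ⊥ → IsPrecomplete J M
  | 0, M, _, _, _, h => by
      rw [pow_zero, Ideal.one_eq_top, Submodule.top_smul] at h
      refine isPrecomplete_of_annihilated I J M fun a _ => Module.mem_annihilator.mpr fun x => ?_
      rw [← Submodule.mem_bot A, ← h]; trivial
  | n + 1, M, _, _, _, h => by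
      set N : Submodule A M := I • ⊤ with hN
      have hNn : (I ^ n • ⊤ : Submodule A N) = ⊥ := by
        apply Submodule.map_injective_of_injective N.injective_subtype
        rw [Submodule.map_smul'', Submodule.map_subtype_top, Submodule.map_bot, hN,
          ← Submodule.mul_smul, ← pow_succ, h]
      have := isPrecomplete_of_pow_annihilated n N hNn
      have : IsPrecomplete J (M ⧸ N) := isPrecomplete_of_annihilated I J _ fun a ha => by
        refine Module.mem_annihilator.mpr fun x => ?_
        induction x using Submodule.Quotient.induction_on with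
        | _ x =>
          rw [← Submodule.Quotient.mk_smul, Submodule.Quotient.mk_eq_zero]
          exact Submodule.smul_mem_smul ha Submodule.mem_top
      obtain ⟨k, hk⟩ := Ideal.exists_pow_inf_eq_pow_smul J N
      refine ⟨fun f hf => ?_⟩
      obtain ⟨x', hx'⟩ := IsPrecomplete.prec this (f := fun m => N.mkQ (f m)) fun {a b} hab => by
        rw [SModEq.sub_mem, ← map_sub]
        have h1 := Submodule.mem_map_of_mem (f := N.mkQ) (SModEq.sub_mem.mp (hf hab))
        rwa [Submodule.map_smul'', Submodule.map_top, Submodule.range_mkQ] at h1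
      obtain ⟨x, rfl⟩ := N.mkQ_surjective x'
      have hmem : ∀ m, f m - x ∈ (J ^ m • ⊤ : Submodule A M) ⊔ N := fun m => by
        have h1 : N.mkQ (f m - x) ∈ ((J ^ m • ⊤ : Submodule A M)).map N.mkQ := by
          rw [Submodule.map_smul'', Submodule.map_top, Submodule.range_mkQ, map_sub]
          exact SModEq.sub_mem.mp (hx' m)
        rw [← Submodule.mem_comap, Submodule.comap_map_mkQ, sup_comm] at h1
        exact h1
      choose e he y hy hey using fun m => Submodule.mem_sup.mp (hmem m)
      have hd : ∀ {a b}, a ≤ b → y b - y a ∈ (J ^ a • ⊤ : Submodule A M) := fun {a b} hab => by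
        rw [show y b - y a = -(f a - f b) - e b + e a by
          rw [← sub_sub_sub_cancel_right (f a) (f b) x, ← hey a, ← hey b]; abel]
        exact add_mem (sub_mem (neg_mem (SModEq.sub_mem.mp (hf hab))) (pow_smul_top_anti hab (he b))) (he a)
      let z : ℕ → N := fun m => ⟨y (m + k), hy _⟩
      obtain ⟨L, hL⟩ := exists_limit (I := J) z fun m => by
        have h1 : y (m + 1 + k) - y (m + k) ∈ (J ^ (m + k) • ⊤ : Submodule A M) ⊓ N :=
          ⟨hd (by omega), sub_mem (hy _) (hy _)⟩
        rw [hk _ (Nat.le_add_left k m), Nat.add_sub_cancel] at h1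
        have h2 := Submodule.smul_mono le_rfl inf_le_right h1
        rw [← Submodule.map_subtype_top N, ← Submodule.map_smul''] at h2
        obtain ⟨w, hw, hwe⟩ := h2
        rwa [show z (m + 1) - z m = w from Subtype.ext hwe.symm]
      refine ⟨x + L, fun m => SModEq.sub_mem.mpr ?_⟩
      have h1 := Submodule.mem_map_of_mem (f := N.subtype) (hL m)
      rw [Submodule.map_smul'', Submodule.map_subtype_top] at h1
      have h2 : (L : M) - y (m + k) ∈ (J ^ m • ⊤ : Submodule A M) :=
        Submodule.smul_mono le_rfl le_top h1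
      rw [show f m - (x + (L : M)) = e m - (y (m + k) - y m) - ((L : M) - y (m + k)) by
        rw [← sub_sub, ← hey m]; abel]
      exact sub_mem (sub_mem (he m) (hd (by omega))) h2

theorem isAdicComplete_of_quotient [IsAdicComplete I A] : IsAdicComplete J A := by
  have hIjac := IsAdicComplete.le_jacobson_bot I
  have hJjac : J ≤ (⊥ : Ideal A).jacobson := by
    intro a ha
    refine Ideal.mem_sInf.mpr fun m hm => ?_
    have : m.IsMaximal := hm.2
    have hIm : I ≤ m := hIjac.trans (sInf_le hm)
    have hmax : (m.map (Ideal.Quotient.mk I)).IsMaximal :=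
      Ideal.IsMaximal.map_of_surjective_of_ker_le Ideal.Quotient.mk_surjective
        (by rwa [Ideal.mk_ker]) 
    have h1 : Ideal.Quotient.mk I a ∈ m.map (Ideal.Quotient.mk I) :=
      sInf_le (show m.map (Ideal.Quotient.mk I) ∈ {K : Ideal (A ⧸ I) | ⊥ ≤ K ∧ K.IsMaximal} from ⟨bot_le, hmax⟩)
        (IsAdicComplete.le_jacobson_bot (J.map (Ideal.Quotient.mk I)) (Ideal.mem_map_of_mem _ ha))
    rw [← Ideal.mem_comap, Ideal.comap_map_of_surjective _ Ideal.Quotient.mk_surjective,
      ← RingHom.ker_eq_comap_bot, Ideal.mk_ker, sup_of_le_left hIm] at h1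
    exact h1
  refine { toIsHausdorff := IsHausdorff.of_le_jacobson J A hJjac, prec' := fun f hf => ?_ }
  -- a limit modulo each power of `I`
  have hlim : ∀ n, ∃ L : A, ∀ m, f m - L ∈ (J ^ m • ⊤ : Submodule A A) ⊔ I ^ n • ⊤ := fun n => by
    set S : Submodule A A := I ^ n • ⊤
    have : IsPrecomplete J (A ⧸ S) := isPrecomplete_of_pow_annihilated I J n _ (by
      rw [← Submodule.range_mkQ S, ← Submodule.map_top S.mkQ, ← Submodule.map_smul'',
        Submodule.mkQ_map_self])
    obtain ⟨L', hL'⟩ := IsPrecomplete.prec this (f := fun m => S.mkQ (f m)) fun {a b} hab => by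
      rw [SModEq.sub_mem, ← map_sub]
      have h1 := Submodule.mem_map_of_mem (f := S.mkQ) (SModEq.sub_mem.mp (hf hab))
      rwa [Submodule.map_smul'', Submodule.map_top, Submodule.range_mkQ] at h1
    obtain ⟨L, rfl⟩ := S.mkQ_surjective L'
    refine ⟨L, fun m => ?_⟩
    have h1 : S.mkQ (f m - L) ∈ ((J ^ m • ⊤ : Submodule A A)).map S.mkQ := by
      rw [Submodule.map_smul'', Submodule.map_top, Submodule.range_mkQ, map_sub]
      exact SModEq.sub_mem.mp (hL' m)
    rw [← Submodule.mem_comap, Submodule.comap_map_mkQ, sup_comm] at h1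
    exact h1
  choose L hL using hlim
  obtain ⟨l, hl⟩ := exists_limit (I := I) L fun n => by
    refine mem_of_forall_mem_sup_pow hJjac (I ^ n • ⊤ : Submodule A A) fun m => ?_
    rw [show L (n + 1) - L n = (f m - L n) - (f m - L (n + 1)) by ring, sup_comm]
    refine sub_mem (hL n m) ?_
    have hle : (J ^ m • ⊤ : Submodule A A) ⊔ I ^ (n + 1) • ⊤ ≤ J ^ m • ⊤ ⊔ I ^ n • ⊤ :=
      sup_le le_sup_left ((pow_smul_top_anti (Nat.le_succ n)).trans le_sup_right)
    exact hle (hL (n + 1) m)
  refine ⟨l, fun m => SModEq.sub_mem.mpr (mem_of_forall_mem_sup_pow hIjac _ fun n => ?_)⟩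
  rw [show f m - l = (f m - L n) - (l - L n) by ring]
  exact sub_mem (hL n m) (Submodule.mem_sup_right (hl n))

end CompleteLib
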