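import Mathlib.RingTheory.AdicCompletion.Noetherian
import Mathlib.RingTheory.Finiteness.Ideal
import Mathlib.RingTheory.Finiteness.Cardinality

/-!
# Basic lemmas on adically complete modules

Limits of Cauchy sequences given by successive differences, successive approximation of elements by
a finite generating family, completeness of finite modules over complete Noetherian rings.
-/

set_option autoImplicit false

namespace CompleteLib

universe u v w

variable {A : Type u} [CommRing A] {I : Ideal A} {M : Type v} [AddCommGroup M] [Module A M]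

theorem pow_smul_top_anti {m n : ℕ} (h : m ≤ n) :
    (I ^ n • ⊤ : Submodule A M) ≤ I ^ m • ⊤ :=
  Submodule.smul_mono (Ideal.pow_le_pow_right h) le_rfl

theorem sub_mem_of_succ {f : ℕ → M} (h : ∀ n, f (n + 1) - f n ∈ (I ^ n • ⊤ : Submodule A M))
    {m n : ℕ} (hmn : m ≤ n) : f n - f m ∈ (I ^ m • ⊤ : Submodule A M) := by
  induction hmn with
  | refl => simp
  | @step k hk ih =>
    rw [show f (k + 1) - f m = (f (k + 1) - f k) + (f k - f m) by abel]
    exact add_mem (pow_smul_top_anti hk (h k)) ih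

theorem exists_limit [IsPrecomplete I M] (f : ℕ → M)
    (h : ∀ n, f (n + 1) - f n ∈ (I ^ n • ⊤ : Submodule A M)) :
    ∃ L : M, ∀ n, L - f n ∈ (I ^ n • ⊤ : Submodule A M) := by
  have hf : ∀ {m n : ℕ}, m ≤ n → f m ≡ f n [SMOD (I ^ m • ⊤ : Submodule A M)] := fun hmn => by
    rw [SModEq.sub_mem, ← neg_sub]; exact neg_mem (sub_mem_of_succ h hmn)
  obtain ⟨L, hL⟩ := IsPrecomplete.prec ‹IsPrecomplete I M› hf
  refine ⟨L, fun n => ?_⟩
  rw [← neg_sub]
  exact neg_mem (SModEq.sub_mem.mp (hL n))

theorem eq_zero_of_forall_mem [IsHausdorff I M] {x : M}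
    (h : ∀ n, x ∈ (I ^ n • ⊤ : Submodule A M)) : x = 0 :=
  IsHausdorff.haus ‹_› x fun n => SModEq.sub_mem.mpr (by simpa using h n)

theorem mem_smul_span_iff_exists {ι : Type*} [Fintype ι] (J : Ideal A) (x : ι → M) (z : M) :
    z ∈ J • Submodule.span A (Set.range x) ↔ ∃ c : ι → A, (∀ i, c i ∈ J) ∧ ∑ i, c i • x i = z := by
  rw [Submodule.mem_ideal_smul_span_iff_exists_sum]
  constructor
  · rintro ⟨c, hc, h⟩
    exact ⟨c, hc, by rwa [Finsupp.sum_fintype _ _ (by simp)] at h⟩
  · rintro ⟨c, hc, h⟩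
    exact ⟨Finsupp.equivFunOnFinite.symm c, by simpa using hc,
      by rw [Finsupp.sum_fintype _ _ (by simp)]; simpa using h⟩

/-- Successive approximation: if `K` is a separated filtration with
`K m ≤ I ^ m • span x + K (m + 1)` then every element of `K m` is a combination of the `x i`
with coefficients in `I ^ m`. -/
theorem exists_eq_sum_of_approx [IsPrecomplete I A] {ι : Type*} [Fintype ι] (x : ι → M)
    (K : ℕ → Submodule A M) (hanti : Antitone K) (hsep : ∀ z, (∀ m, z ∈ K m) → z = 0)
    (hIK : ∀ m, I ^ m • ⊤ ≤ K m)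
    (hstep : ∀ m, K m ≤ I ^ m • Submodule.span A (Set.range x) ⊔ K (m + 1))
    (m : ℕ) (y : M) (hy : y ∈ K m) :
    ∃ a : ι → A, (∀ i, a i ∈ I ^ m) ∧ y = ∑ i, a i • x i := by
  classical
  let P : ℕ → (ι → A) → Prop := fun j a =>
    (∀ i, a i ∈ I ^ m) ∧ y - ∑ i, a i • x i ∈ K (m + j)
  have step : ∀ j a, P j a → ∃ a', P (j + 1) a' ∧ ∀ i, a' i - a i ∈ I ^ j := by
    rintro j a ⟨ha, hay⟩
    obtain ⟨z, hz, w, hw, hzw⟩ := Submodule.mem_sup.mp (hstep (m + j) hay)
    obtain ⟨c, hc, rfl⟩ := (mem_smul_span_iff_exists _ x z).mp hz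
    refine ⟨fun i => a i + c i, ⟨fun i => add_mem (ha i) (Ideal.pow_le_pow_right (by omega) (hc i)), ?_⟩,
      fun i => by simpa using Ideal.pow_le_pow_right (show j ≤ m + j by omega) (hc i)⟩
    have : y - ∑ i, (a i + c i) • x i = w := by
      simp only [add_smul, Finset.sum_add_distrib]
      rw [← sub_sub, ← hzw]; abel
    rw [this, ← add_assoc]; exact hw
  choose nxt hnxt hdiff using step
  let seq : ∀ j, {a : ι → A // P j a} := fun j =>
    Nat.rec (motive := fun j => {a : ι → A // P j a}) ⟨0, fun i => zero_mem _, by simpa using hy⟩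
      (fun j a => ⟨nxt j a.1 a.2, hnxt j a.1 a.2⟩) j
  have hlim : ∀ i, ∃ a : A, ∀ j, a - (seq j).1 i ∈ I ^ j := fun i => by
    obtain ⟨L, hL⟩ := exists_limit (I := I) (fun j => (seq j).1 i) fun j => by
      rw [smul_eq_mul, Ideal.mul_top]; exact hdiff j _ (seq j).2 i
    exact ⟨L, fun j => by simpa using hL j⟩
  choose a ha using hlim
  refine ⟨a, fun i => ?_, ?_⟩
  · simpa using add_mem (ha i m) ((seq m).2.1 i)
  · refine sub_eq_zero.mp (hsep _ fun j => ?_)
    rw [show y - ∑ i, a i • x i =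
      (y - ∑ i, (seq j).1 i • x i) - ∑ i, (a i - (seq j).1 i) • x i by
        simp only [sub_smul, Finset.sum_sub_distrib]; abel]
    refine sub_mem (hanti (by omega) (seq j).2.2) (hIK j ?_)
    exact Submodule.sum_mem _ fun i _ => Submodule.smul_mem_smul (ha i j) Submodule.mem_top

/-- If moreover `K 0 = ⊤` then `K m = I ^ m • ⊤` and the `x i` generate. -/
theorem approx_filtration_eq [IsPrecomplete I A] {ι : Type*} [Fintype ι] (x : ι → M)
    (K : ℕ → Submodule A M) (hanti : Antitone K) (hsep : ∀ z, (∀ m, z ∈ K m) → z = 0)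
    (hIK : ∀ m, I ^ m • ⊤ ≤ K m)
    (hstep : ∀ m, K m ≤ I ^ m • Submodule.span A (Set.range x) ⊔ K (m + 1)) (h0 : K 0 = ⊤) :
    Submodule.span A (Set.range x) = ⊤ ∧ ∀ m, K m = I ^ m • ⊤ := by
  have h := fun m y hy => exists_eq_sum_of_approx x K hanti hsep hIK hstep m y hy
  refine ⟨eq_top_iff.mpr fun y _ => ?_, fun m => le_antisymm (fun y hy => ?_) (hIK m)⟩
  · obtain ⟨a, -, rfl⟩ := h 0 y (h0 ▸ Submodule.mem_top)
    exact Submodule.sum_mem _ fun i _ => Submodule.smul_mem _ _ (Submodule.subset_span ⟨i, rfl⟩)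
  · obtain ⟨a, ha, rfl⟩ := h m y hy
    exact Submodule.sum_mem _ fun i _ => Submodule.smul_mem_smul (ha i) Submodule.mem_top

/-- A separated module over a complete ring which is finite modulo `I` is finite. -/
theorem finite_of_quotient_finite [IsPrecomplete I A] [IsHausdorff I M]
    (h : Module.Finite A (M ⧸ (I • ⊤ : Submodule A M))) : Module.Finite A M := by
  obtain ⟨r, s, hs⟩ := Module.Finite.exists_fin (R := A) (M := M ⧸ (I • ⊤ : Submodule A M))
  choose x hx using fun i => Submodule.mkQ_surjective (I • ⊤ : Submodule A M) (s i)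
  have hgen : Submodule.span A (Set.range x) ⊔ I • ⊤ = ⊤ := by
    have hmap : (Submodule.span A (Set.range x)).map (I • ⊤ : Submodule A M).mkQ = ⊤ := by
      rw [Submodule.map_span, ← Set.range_comp, ← hs]
      congr 2
      funext i; exact hx i
    rw [sup_comm, ← Submodule.comap_map_mkQ, hmap, Submodule.comap_top]
  have := approx_filtration_eq (I := I) x (fun m => I ^ m • ⊤) (fun a b hab => pow_smul_top_anti hab)
    (fun z hz => eq_zero_of_forall_mem hz) (fun m => le_rfl) (fun m => by
      conv_lhs => rw [← hgen]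
      rw [Submodule.smul_sup, ← Submodule.mul_smul, ← pow_succ]) (by simp)
  exact ⟨⟨(Set.finite_range x).toFinset, by rw [Set.Finite.coe_toFinset]; exact this.1⟩⟩

theorem isPrecomplete_of_surjective {N : Type w} [AddCommGroup N] [Module A N]
    [IsPrecomplete I M] (φ : M →ₗ[A] N) (hφ : Function.Surjective φ) : IsPrecomplete I N := by
  refine ⟨fun f hf => ?_⟩
  have hd : ∀ n, ∃ c ∈ (I ^ n • ⊤ : Submodule A M), φ c = f (n + 1) - f n := fun n => by
    have h1 := SModEq.sub_mem.mp (hf (Nat.le_succ n))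
    have h2 : f (n + 1) - f n ∈ (I ^ n • ⊤ : Submodule A M).map φ := by
      rw [Submodule.map_smul'', Submodule.map_top, LinearMap.range_eq_top.mpr hφ, ← neg_sub]
      exact neg_mem h1
    exact h2
  choose c hc hφc using hd
  obtain ⟨g0, hg0⟩ := hφ (f 0)
  let g : ℕ → M := fun n => Nat.rec g0 (fun k gk => gk + c k) n
  have hg : ∀ n, φ (g n) = f n := by
    intro n
    induction n with
    | zero => exact hg0
    | succ n ih =>
      show φ (g n + c n) = f (n + 1)
      rw [map_add, ih, hφc, add_sub_cancel]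
  obtain ⟨L, hL⟩ := exists_limit (I := I) g fun n => by simpa [g] using hc n
  refine ⟨φ L, fun n => ?_⟩
  rw [SModEq.sub_mem, ← neg_sub, ← hg, ← map_sub]
  refine neg_mem ?_
  have := Submodule.mem_map_of_mem (f := φ) (hL n)
  rw [Submodule.map_smul''] at this
  exact Submodule.smul_mono le_rfl le_top this

theorem isPrecomplete_pi [IsPrecomplete I A] (r : ℕ) : IsPrecomplete I (Fin r → A) := by
  refine ⟨fun f hf => ?_⟩
  have hc : ∀ i n, f (n + 1) i - f n i ∈ (I ^ n • ⊤ : Submodule A A) := fun i n => by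
    have h1 := SModEq.sub_mem.mp (hf (Nat.le_succ n))
    have h2 := Submodule.mem_map_of_mem (f := LinearMap.proj (φ := fun _ : Fin r => A) i) h1
    rw [Submodule.map_smul''] at h2
    rw [← neg_sub]
    exact neg_mem (Submodule.smul_mono le_rfl le_top h2)
  choose L hL using fun i => exists_limit (I := I) (fun n => f n i) (hc i)
  refine ⟨L, fun n => ?_⟩
  rw [SModEq.sub_mem, ← neg_sub]
  refine neg_mem ?_
  rw [show (fun i => L i) - f n = ∑ i, (L i - f n i) • (Pi.single i 1 : Fin r → A) by
    ext k; simp [Finset.sum_apply, Pi.single_apply]]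
  exact Submodule.sum_mem _ fun i _ =>
    Submodule.smul_mem_smul (by simpa using hL i n) Submodule.mem_top

theorem isAdicComplete_of_finite [IsNoetherianRing A] [IsAdicComplete I A] [Module.Finite A M] :
    IsAdicComplete I M := by
  obtain ⟨r, φ, hφ⟩ := Module.Finite.exists_fin' A M
  have := isPrecomplete_pi (I := I) r
  exact { toIsHausdorff := IsHausdorff.of_le_jacobson I M (IsAdicComplete.le_jacobson_bot I),
          toIsPrecomplete := isPrecomplete_of_surjective φ hφ }

theorem eq_top_of_sup_smul_eq_top {N : Submodule A M} (h : N ⊔ I • ⊤ = ⊤) {k : ℕ}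
    (hk : (I ^ k • ⊤ : Submodule A M) = ⊥) : N = ⊤ := by
  have key : ∀ j, N ⊔ I ^ j • ⊤ = ⊤ := by
    intro j
    induction j with
    | zero => simp
    | succ j ih =>
      refine eq_top_iff.mpr (ih.symm.le.trans (sup_le le_sup_left ?_))
      conv_lhs => rw [← h]
      rw [Submodule.smul_sup, ← Submodule.mul_smul, ← pow_succ]
      exact sup_le (Submodule.smul_le_right.trans le_sup_left) le_sup_right
  simpa [hk] using key k

end CompleteLib
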