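import Mathlib.RingTheory.AdicCompletion.RingHom
import Mathlib.RingTheory.AdicCompletion.Completeness
import Mathlib.RingTheory.Finiteness.Ideal

/-!
# Ring homomorphisms out of adic completions
-/

set_option autoImplicit false

namespace CompleteLib

universe u v

variable {C : Type u} [CommRing C] (K : Ideal C) {B : Type v} [CommRing B] (J : Ideal B)

/-- The maps `AdicCompletion K C → B ⧸ J ^ n` induced by a continuous `θ`. -/
noncomputable def completionLiftAux (θ : C →+* B) (h : K.map θ ≤ J) (n : ℕ) :
    AdicCompletion K C →+* B ⧸ J ^ n :=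
  (Ideal.quotientMap (J ^ n) θ
    (Ideal.map_le_iff_le_comap.mp (by rw [Ideal.map_pow]; exact Ideal.pow_right_mono h n))).comp
      (AdicCompletion.evalₐ K n).toRingHom

theorem factor_completionLiftAux (θ : C →+* B) (h : K.map θ ≤ J) {m n : ℕ} (hle : m ≤ n) :
    (Ideal.Quotient.factorPow J hle).comp (completionLiftAux K J θ h n) =
      completionLiftAux K J θ h m := by
  refine RingHom.ext fun x => ?_
  induction x using AdicCompletion.induction_on with
  | _ f =>
    simp only [completionLiftAux, RingHom.comp_apply, AlgHom.toRingHom_eq_coe, RingHom.coe_coe,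
      AdicCompletion.evalₐ_mk, Ideal.quotientMap_mk]
    rw [Ideal.Quotient.factor_mk, Ideal.Quotient.mk_eq_mk_iff_sub_mem, ← map_sub]
    have hf : f n - f m ∈ K ^ m := by
      have h1 := SModEq.sub_mem.mp (f.2 hle)
      rw [smul_eq_mul, Ideal.mul_top] at h1
      rw [← neg_sub]; exact neg_mem h1
    have h2 := Ideal.mem_map_of_mem θ hf
    rw [Ideal.map_pow] at h2
    exact Ideal.pow_right_mono h m h2

variable [IsAdicComplete J B]

/-- The extension of a continuous ring homomorphism to the completion. -/
noncomputable def completionLift (θ : C →+* B) (h : K.map θ ≤ J) : AdicCompletion K C →+* B :=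
  IsAdicComplete.liftRingHom J (completionLiftAux K J θ h)
    (fun hle => factor_completionLiftAux K J θ h hle)

theorem completionLift_algebraMap (θ : C →+* B) (h : K.map θ ≤ J) (c : C) :
    completionLift K J θ h (algebraMap C (AdicCompletion K C) c) = θ c := by
  refine sub_eq_zero.mp (IsHausdorff.haus (I := J) ‹IsAdicComplete J B›.toIsHausdorff _ fun n => ?_)
  rw [SModEq.sub_mem, sub_zero, smul_eq_mul, Ideal.mul_top, ← Ideal.Quotient.eq_zero_iff_mem,
    map_sub, sub_eq_zero, completionLift, IsAdicComplete.mk_liftRingHom]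
  simp only [completionLiftAux, RingHom.comp_apply, AlgHom.toRingHom_eq_coe, RingHom.coe_coe,
    AlgHom.commutes, Ideal.Quotient.algebraMap_eq, Ideal.quotientMap_mk]

omit [IsAdicComplete J B] in
/-- Continuous ring maps out of a completion along a finitely generated ideal are determined
on the dense subring. -/
theorem completion_hom_ext [IsHausdorff J B] (hK : K.FG) (ψ₁ ψ₂ : AdicCompletion K C →+* B)
    (hcont : K.map (ψ₁.comp (algebraMap C (AdicCompletion K C))) ≤ J)
    (heq : ∀ c, ψ₁ (algebraMap C _ c) = ψ₂ (algebraMap C _ c)) : ψ₁ = ψ₂ := by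
  refine RingHom.ext fun x => sub_eq_zero.mp (IsHausdorff.haus (I := J) ‹_› _ fun n => ?_)
  rw [SModEq.sub_mem, sub_zero, smul_eq_mul, Ideal.mul_top]
  obtain ⟨c, hc⟩ := Submodule.Quotient.mk_surjective (K ^ n • ⊤ : Submodule C C) (x.val n)
  have hmem : x - algebraMap C _ c ∈ (K ^ n • ⊤ : Submodule C (AdicCompletion K C)) := by
    rw [AdicCompletion.pow_smul_top_eq_ker_eval hK, LinearMap.mem_ker, map_sub, sub_eq_zero,
      AdicCompletion.eval_apply, AdicCompletion.eval_apply, ← hc]
    rfl
  have key : ∀ z ∈ (K ^ n • ⊤ : Submodule C (AdicCompletion K C)), ψ₁ z - ψ₂ z ∈ J ^ n := by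
    intro z hz
    refine Submodule.smul_induction_on hz (fun a ha w _ => ?_) (fun p q hp hq => ?_)
    · rw [Algebra.smul_def, map_mul, map_mul, ← heq a, ← mul_sub]
      refine Ideal.mul_mem_right _ _ (Ideal.pow_right_mono hcont n ?_)
      rw [← Ideal.map_pow]
      exact Ideal.mem_map_of_mem (ψ₁.comp (algebraMap C (AdicCompletion K C))) ha
    · rw [map_add, map_add, add_sub_add_comm]; exact add_mem hp hq
  have h := key _ hmem
  rwa [map_sub, map_sub, heq, sub_sub_sub_cancel_right] at h

end CompleteLib
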