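import Groth.Agent.CompleteLib.ModuleLimit
import Mathlib.Algebra.Module.Projective
import Mathlib.LinearAlgebra.Pi

/-!
# Limits of systems of finite projective modules over `A ⧸ I ^ (n+1)`
-/

set_option autoImplicit false

namespace CompleteLib

universe u v

open Submodule

variable {A : Type u} [CommRing A]

/-- A summand of `(A ⧸ J) ^ m` is projective among modules killed by `J`. -/
theorem exists_lift_of_summand {J : Ideal A} {M P Q : Type*} [AddCommGroup M] [Module A M]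
    [AddCommGroup P] [Module A P] [AddCommGroup Q] [Module A Q] {m : ℕ}
    (i : M →ₗ[A] (Fin m → A ⧸ J)) (r : (Fin m → A ⧸ J) →ₗ[A] M) (hri : r ∘ₗ i = LinearMap.id)
    (hP : (J • ⊤ : Submodule A P) = ⊥) (p : P →ₗ[A] Q) (hp : Function.Surjective p)
    (g : M →ₗ[A] Q) : ∃ h : M →ₗ[A] P, p ∘ₗ h = g := by
  classical
  choose y hy using fun k => hp (g (r (Pi.single k 1)))
  have hJ : ∀ k, J ≤ LinearMap.ker (LinearMap.toSpanSingleton A P (y k)) := fun k a ha => by
    rw [LinearMap.mem_ker, LinearMap.toSpanSingleton_apply, ← Submodule.mem_bot A, ← hP]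
    exact Submodule.smul_mem_smul ha Submodule.mem_top
  let h0 : (Fin m → A ⧸ J) →ₗ[A] P :=
    LinearMap.lsum A (fun _ : Fin m => A ⧸ J) A fun k =>
      Submodule.liftQ J (LinearMap.toSpanSingleton A P (y k)) (hJ k)
  have hh : p ∘ₗ h0 = g ∘ₗ r := by
    refine LinearMap.pi_ext' fun k => ?_
    refine Submodule.linearMap_qext _ (LinearMap.ext_ring ?_)
    simp only [LinearMap.comp_apply, Submodule.mkQ_apply, LinearMap.coe_single, h0,
      LinearMap.lsum_apply, LinearMap.sum_apply, LinearMap.proj_apply]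
    rw [map_sum, Finset.sum_eq_single k ?_ (fun h => absurd (Finset.mem_univ _) h)]
    · rw [Pi.single_eq_same, Submodule.liftQ_apply, LinearMap.toSpanSingleton_apply, one_smul, hy]
      rfl
    · intro l _ hl
      rw [Pi.single_eq_of_ne hl, map_zero, map_zero]
  exact ⟨h0 ∘ₗ i, by rw [← LinearMap.comp_assoc, hh, LinearMap.comp_assoc, hri, LinearMap.comp_id]⟩

variable (I : Ideal A) (M : ℕ → Type v) [∀ n, AddCommGroup (M n)] [∀ n, Module A (M n)]
  (f : ∀ n, M (n + 1) →ₗ[A] M n) (hf : ∀ n, Function.Surjective (f n))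
  (hk : ∀ n, I ^ (n + 1) • (⊤ : Submodule A (M n)) = ⊥)
  (hker : ∀ n, LinearMap.ker (f n) = I ^ (n + 1) • (⊤ : Submodule A (M (n + 1))))
  (L : Type v) [AddCommGroup L] [Module A L] (π : ∀ n, L →ₗ[A] M n)
  (hπ : ∀ n, f n ∘ₗ π (n + 1) = π n)
  (hinj : ∀ x : L, (∀ n, π n x = 0) → x = 0)
  (hlift : ∀ y : (∀ n, M n), (∀ n, f n (y (n + 1)) = y n) → ∃ x : L, ∀ n, π n x = y n)
  (hproj : ∀ n, ∃ (m : ℕ) (i : M n →ₗ[A] (Fin m → A ⧸ I ^ (n + 1)))
    (r : (Fin m → A ⧸ I ^ (n + 1)) →ₗ[A] M n), r ∘ₗ i = LinearMap.id)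

include hf hk hker hπ hinj hlift hproj in
theorem limit_projective [IsAdicComplete I A] :
    Module.Finite A L ∧ Module.Projective A L ∧
      ∀ n, Function.Surjective (π n) ∧ LinearMap.ker (π n) = I ^ (n + 1) • (⊤ : Submodule A L) := by
  classical
  have h0 : Module.Finite A (M 0) := by
    obtain ⟨m, i, r, hri⟩ := hproj 0
    exact Module.Finite.of_surjective r fun x => ⟨i x, LinearMap.congr_fun hri x⟩
  obtain ⟨hfin, -, hπk⟩ := limit_finite I M f hf hker L π hπ hinj hlift h0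
  refine ⟨hfin, ?_, hπk⟩
  obtain ⟨r, ψ, hψ⟩ := Module.Finite.exists_fin' A L
  -- reductions modulo `I ^ (n + 1)`
  let T : ℕ → Type u := fun n => Fin r → A ⧸ I ^ (n + 1)
  let q : ∀ n, (Fin r → A) →ₗ[A] T n := fun n =>
    LinearMap.pi fun k => (Submodule.mkQ (I ^ (n + 1))) ∘ₗ LinearMap.proj k
  have hq : ∀ n, Function.Surjective (q n) := fun n t => by
    choose a ha using fun k => Submodule.mkQ_surjective (I ^ (n + 1)) (t k)
    exact ⟨a, funext ha⟩
  have hqker : ∀ n x, q n x = 0 ↔ ∀ k, x k ∈ I ^ (n + 1) := fun n x =>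
    ⟨fun h k => (Submodule.Quotient.mk_eq_zero _).mp (congrFun h k),
      fun h => funext fun k => (Submodule.Quotient.mk_eq_zero _).mpr (h k)⟩
  let τ : ∀ n, T (n + 1) →ₗ[A] T n := fun n =>
    LinearMap.pi fun k => (Submodule.factor (Ideal.pow_le_pow_right (Nat.le_succ (n + 1)))) ∘ₗ
      LinearMap.proj k
  have hτq : ∀ n, τ n ∘ₗ q (n + 1) = q n := fun n => by
    exact LinearMap.ext fun x => funext fun k => rfl
  have hτ : ∀ n, Function.Surjective (τ n) := fun n t => by
    obtain ⟨x, rfl⟩ := hq n t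
    exact ⟨q (n + 1) x, LinearMap.congr_fun (hτq n) x⟩
  have hT : ∀ n, (I ^ (n + 1) • ⊤ : Submodule A (T n)) = ⊥ := fun n => by
    rw [eq_bot_iff, Submodule.smul_le]
    intro a ha t _
    obtain ⟨x, rfl⟩ := hq n t
    rw [Submodule.mem_bot, ← map_smul, hqker]
    exact fun k => Ideal.mul_mem_right _ _ ha
  have hψk : ∀ n, LinearMap.ker (q n) ≤ LinearMap.ker (π n ∘ₗ ψ) := fun n x hx => by
    rw [LinearMap.mem_ker, hqker] at hx
    rw [LinearMap.mem_ker, LinearMap.comp_apply, ← LinearMap.mem_ker, (hπk n).2,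
      show x = ∑ k, x k • (Pi.single k 1 : Fin r → A) by
        ext k; simp [Finset.sum_apply, Pi.single_apply], map_sum]
    exact Submodule.sum_mem _ fun k _ => by
      rw [map_smul]; exact Submodule.smul_mem_smul (hx k) Submodule.mem_top
  have hψn : ∀ n, ∃ g : T n →ₗ[A] M n, g ∘ₗ q n = π n ∘ₗ ψ := fun n => by
    refine ⟨(LinearMap.ker (q n)).liftQ _ (hψk n) ∘ₗ
      ((q n).quotKerEquivOfSurjective (hq n)).symm.toLinearMap, LinearMap.ext fun x => ?_⟩
    have : ((q n).quotKerEquivOfSurjective (hq n)).symm (q n x) = Submodule.Quotient.mk x := by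
      rw [LinearEquiv.symm_apply_eq]; rfl
    simp [this]
  choose ψn hψnq using hψn
  have hψsurj : ∀ n, Function.Surjective (ψn n) := fun n y => by
    obtain ⟨z, rfl⟩ := (hπk n).1 y
    obtain ⟨x, rfl⟩ := hψ z
    exact ⟨q n x, LinearMap.congr_fun (hψnq n) x⟩
  have hψτ : ∀ n, f n ∘ₗ ψn (n + 1) = ψn n ∘ₗ τ n := fun n => by
    refine LinearMap.ext fun t => ?_
    obtain ⟨x, rfl⟩ := hq (n + 1) t
    have h1 := LinearMap.congr_fun (hψnq (n + 1)) x
    have h2 := LinearMap.congr_fun (hψnq n) x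
    have h3 := LinearMap.congr_fun (hτq n) x
    simp only [LinearMap.comp_apply] at h1 h2 h3 ⊢
    rw [h1, h3, h2, π_apply M f L π hπ]
  -- compatible sections
  have base : ∃ s : M 0 →ₗ[A] T 0, ψn 0 ∘ₗ s = LinearMap.id := by
    obtain ⟨m, i, p, hpi⟩ := hproj 0
    exact exists_lift_of_summand i p hpi (hT 0) (ψn 0) (hψsurj 0) LinearMap.id
  have step : ∀ n (s : M n →ₗ[A] T n), ψn n ∘ₗ s = LinearMap.id →
      ∃ s' : M (n + 1) →ₗ[A] T (n + 1), ψn (n + 1) ∘ₗ s' = LinearMap.id ∧ τ n ∘ₗ s' = s ∘ₗ f n := by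
    intro n s hs
    obtain ⟨m, i, p, hpi⟩ := hproj (n + 1)
    obtain ⟨t, ht⟩ := exists_lift_of_summand i p hpi (hT (n + 1)) (τ n) (hτ n) (s ∘ₗ f n)
    set δ : M (n + 1) →ₗ[A] M (n + 1) := LinearMap.id - ψn (n + 1) ∘ₗ t with hδ
    have hfδ : f n ∘ₗ δ = 0 := by
      rw [hδ, LinearMap.comp_sub, LinearMap.comp_id, ← LinearMap.comp_assoc, hψτ,
        LinearMap.comp_assoc, ht, ← LinearMap.comp_assoc, hs, LinearMap.id_comp, sub_self]
    have hδδ : δ ∘ₗ δ = 0 := by
      refine LinearMap.ext fun x => ?_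
      have h1 : δ x ∈ I ^ (n + 1) • (⊤ : Submodule A (M (n + 1))) := by
        rw [← hker n, LinearMap.mem_ker]; exact LinearMap.congr_fun hfδ x
      have h2 := Submodule.mem_map_of_mem (f := δ) h1
      rw [Submodule.map_smul''] at h2
      have h3 : (⊤ : Submodule A (M (n + 1))).map δ ≤ I ^ (n + 1) • ⊤ := by
        rintro _ ⟨z, -, rfl⟩
        rw [← hker n, LinearMap.mem_ker]; exact LinearMap.congr_fun hfδ z
      have h4 := Submodule.smul_mono (le_refl (I ^ (n + 1))) h3 h2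
      rw [← Submodule.mul_smul, ← pow_add] at h4
      have h5 := pow_smul_top_anti (I := I) (show n + 1 + 1 ≤ n + 1 + (n + 1) by omega) h4
      rw [hk (n + 1), Submodule.mem_bot] at h5
      exact h5
    refine ⟨t ∘ₗ (LinearMap.id + δ), ?_, ?_⟩
    · have h1 : ψn (n + 1) ∘ₗ t = LinearMap.id - δ := by rw [hδ, sub_sub_cancel]
      rw [← LinearMap.comp_assoc, h1, LinearMap.sub_comp, LinearMap.id_comp, LinearMap.comp_add,
        LinearMap.comp_id, hδδ, add_zero, add_sub_cancel_right]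
    · rw [← LinearMap.comp_assoc, ht, LinearMap.comp_assoc, LinearMap.comp_add, LinearMap.comp_id,
        hfδ, add_zero]
  choose nxt hn1 hn2 using step
  let sec : ∀ n, {s : M n →ₗ[A] T n // ψn n ∘ₗ s = LinearMap.id} := fun n =>
    Nat.rec (motive := fun n => {s : M n →ₗ[A] T n // ψn n ∘ₗ s = LinearMap.id})
      ⟨base.choose, base.choose_spec⟩ (fun n s => ⟨nxt n s.1 s.2, hn1 n s.1 s.2⟩) n
  have hsec : ∀ n, τ n ∘ₗ (sec (n + 1)).1 = (sec n).1 ∘ₗ f n := fun n => hn2 n _ (sec n).2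
  -- glue the sections
  have huniq : ∀ x x' : Fin r → A, (∀ n, q n x = q n x') → x = x' := fun x x' h => by
    refine funext fun k => sub_eq_zero.mp (eq_zero_of_forall_mem (I := I) fun n => ?_)
    have := (hqker n (x - x')).mp (by rw [map_sub, h, sub_self]) k
    simpa using Ideal.pow_le_pow_right (Nat.le_succ n) this
  have hex : ∀ y : L, ∃ x : Fin r → A, ∀ n, q n x = (sec n).1 (π n y) := fun y => by
    choose a ha using fun n => hq n ((sec n).1 (π n y))
    have hstep : ∀ k n, a (n + 1) k - a n k ∈ I ^ (n + 1) := fun k n => by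
      refine (hqker n (a (n + 1) - a n)).mp ?_ k
      rw [map_sub, sub_eq_zero, ha n, ← hτq n, LinearMap.comp_apply, ha (n + 1),
        ← π_apply M f L π hπ n y]
      exact LinearMap.congr_fun (hsec n) _
    have hl : ∀ k, ∃ x : A, ∀ n, x - a n k ∈ I ^ (n + 1) := fun k => by
      obtain ⟨x, hx⟩ := exists_limit (I := I) (fun n => a n k) fun n => by
        simpa using Ideal.pow_le_pow_right (Nat.le_succ n) (hstep k n)
      refine ⟨x, fun n => ?_⟩
      rw [show x - a n k = (x - a (n + 1) k) + (a (n + 1) k - a n k) by ring]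
      exact add_mem (by simpa using hx (n + 1)) (hstep k n)
    choose x hx using hl
    refine ⟨x, fun n => ?_⟩
    rw [← ha n, ← sub_eq_zero, ← map_sub]
    exact (hqker n _).mpr fun k => hx k n
  choose σ hσ using hex
  let σl : L →ₗ[A] (Fin r → A) :=
    { toFun := σ
      map_add' := fun y y' => huniq _ _ fun n => by simp [hσ]
      map_smul' := fun a y => huniq _ _ fun n => by simp [hσ] }
  refine Module.Projective.of_split σl ψ (LinearMap.ext fun y => ?_)
  refine sub_eq_zero.mp (hinj _ fun n => ?_)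
  rw [map_sub, sub_eq_zero]
  have h1 := LinearMap.congr_fun (hψnq n) (σ y)
  have h2 := LinearMap.congr_fun (sec n).2 (π n y)
  simp only [LinearMap.comp_apply, hσ, LinearMap.id_apply] at h1 h2 ⊢
  exact h1.symm.trans h2

end CompleteLib
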