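import Groth.Agent.CompleteLib.Basic

/-!
# Inverse limits of systems `M (n+1) → M n` with kernels `I ^ (n+1) • M (n+1)`
-/

set_option autoImplicit false

namespace CompleteLib

universe u v

open scoped Pointwise

variable {A : Type u} [CommRing A]

theorem map_eq_bot_iff_le_ker' {P Q : Type*} [AddCommGroup P] [Module A P] [AddCommGroup Q] [Module A Q]
    (g : P →ₗ[A] Q) (S : Submodule A P) : S.map g = ⊥ ↔ S ≤ LinearMap.ker g := by
  rw [eq_bot_iff, Submodule.map_le_iff_le_comap, Submodule.comap_bot]

theorem limit_π_surjective : ∀ (n : ℕ) {M : ℕ → Type v} [∀ n, AddCommGroup (M n)] [∀ n, Module A (M n)]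
    (f : ∀ n, M (n + 1) →ₗ[A] M n) (_hf : ∀ n, Function.Surjective (f n))
    {L : Type v} [AddCommGroup L] [Module A L] (π : ∀ n, L →ₗ[A] M n)
    (_hlift : ∀ y : (∀ n, M n), (∀ n, f n (y (n + 1)) = y n) → ∃ x : L, ∀ n, π n x = y n),
    Function.Surjective (π n)
  | 0, M, _, _, f, hf, L, _, _, π, hlift => fun b => by
      let y : ∀ k, M k := fun k => Nat.rec (motive := M) b (fun k c => (hf k c).choose) k
      obtain ⟨x, hx⟩ := hlift y fun k => (hf k (y k)).choose_spec
      exact ⟨x, hx 0⟩
  | n + 1, M, _, _, f, hf, L, _, _, π, hlift =>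
      limit_π_surjective n (M := fun k => M (k + 1)) (fun k => f (k + 1)) (fun k => hf (k + 1))
        (fun k => π (k + 1)) fun y hy => by
          obtain ⟨x, hx⟩ := hlift
            (fun k => Nat.rec (motive := M) (f 0 (y 0)) (fun j _ => y j) k)
            (fun k => by cases k with
              | zero => rfl
              | succ k => exact hy k)
          exact ⟨x, fun k => hx (k + 1)⟩

variable (I : Ideal A) (M : ℕ → Type v) [∀ n, AddCommGroup (M n)] [∀ n, Module A (M n)]
  (f : ∀ n, M (n + 1) →ₗ[A] M n) (hf : ∀ n, Function.Surjective (f n))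
  (hker : ∀ n, LinearMap.ker (f n) = I ^ (n + 1) • (⊤ : Submodule A (M (n + 1))))
  (L : Type v) [AddCommGroup L] [Module A L] (π : ∀ n, L →ₗ[A] M n)
  (hπ : ∀ n, f n ∘ₗ π (n + 1) = π n)
  (hinj : ∀ x : L, (∀ n, π n x = 0) → x = 0)
  (hlift : ∀ y : (∀ n, M n), (∀ n, f n (y (n + 1)) = y n) → ∃ x : L, ∀ n, π n x = y n)

include hf hker in
theorem system_pow_smul_eq_bot (n : ℕ) : (I ^ (n + 1) • ⊤ : Submodule A (M n)) = ⊥ := by
  have : (I ^ (n + 1) • ⊤ : Submodule A (M (n + 1))).map (f n) = I ^ (n + 1) • ⊤ := by
    rw [Submodule.map_smul'', Submodule.map_top, LinearMap.range_eq_top.mpr (hf n)]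
  rw [← this, ← hker n, map_eq_bot_iff_le_ker']

/-- `limitFilt m` is the kernel of `π (m - 1)`, and `⊤` for `m = 0`. -/
def limitFilt : ℕ → Submodule A L
  | 0 => ⊤
  | n + 1 => LinearMap.ker (π n)

include hπ in
theorem π_apply (n : ℕ) (x : L) : f n (π (n + 1) x) = π n x := LinearMap.congr_fun (hπ n) x

include hπ in
theorem limitFilt_antitone : Antitone (limitFilt M L π) := by
  refine antitone_nat_of_succ_le fun n => ?_
  cases n with
  | zero => exact le_top
  | succ n =>
    intro x hx
    simp only [limitFilt, LinearMap.mem_ker] at hx ⊢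
    rw [← π_apply M f L π hπ n x, hx, map_zero]

include hinj in
theorem limitFilt_sep (z : L) (h : ∀ m, z ∈ limitFilt M L π m) : z = 0 :=
  hinj z fun n => LinearMap.mem_ker.mp (h (n + 1))

include hf hker in
theorem pow_smul_le_limitFilt (m : ℕ) : I ^ m • ⊤ ≤ limitFilt M L π m := by
  cases m with
  | zero => exact le_top
  | succ n =>
    rw [limitFilt, ← map_eq_bot_iff_le_ker', Submodule.map_smul'', eq_bot_iff,
      ← system_pow_smul_eq_bot I M f hf hker n]
    exact Submodule.smul_mono le_rfl le_top

include hf hker hπ hlift in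
theorem limitFilt_step (n : ℕ) :
    limitFilt M L π (n + 1) ≤ I ^ (n + 1) • ⊤ ⊔ limitFilt M L π (n + 2) := by
  intro x hx
  simp only [limitFilt, LinearMap.mem_ker] at hx
  have h : π (n + 1) x ∈ (I ^ (n + 1) • ⊤ : Submodule A L).map (π (n + 1)) := by
    rw [Submodule.map_smul'', Submodule.map_top,
      LinearMap.range_eq_top.mpr (limit_π_surjective (n + 1) f hf π hlift), ← hker n,
      LinearMap.mem_ker, π_apply M f L π hπ n x]
    exact hx
  rw [← Submodule.mem_comap, Submodule.comap_map_eq] at h
  exact h

include hf hker hπ hinj hlift in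
theorem isAdicComplete_of_filt_eq (heq : ∀ m, limitFilt M L π m = I ^ m • ⊤) :
    IsAdicComplete I L := by
  refine { haus' := fun x hx => hinj x fun n => ?_, prec' := fun g hg => ?_ }
  · have := SModEq.sub_mem.mp (hx (n + 1))
    rw [sub_zero, ← heq] at this
    exact this
  · obtain ⟨x, hx⟩ := hlift (fun n => π n (g (n + 1))) fun n => by
      have h := SModEq.sub_mem.mp (hg (Nat.le_succ (n + 1)))
      rw [← heq, limitFilt, LinearMap.mem_ker, map_sub, sub_eq_zero] at h
      rw [π_apply M f L π hπ]
      exact h.symm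
    refine ⟨x, fun n => ?_⟩
    rw [SModEq.sub_mem, ← heq]
    cases n with
    | zero => exact Submodule.mem_top
    | succ n => rw [limitFilt, LinearMap.mem_ker, map_sub, hx, sub_self]

include hf hker hπ hlift in
theorem limitFilt_step_span [Module.Finite A (M 0)] :
    ∃ (r : ℕ) (x : Fin r → L), ∀ m,
      limitFilt M L π m ≤ I ^ m • Submodule.span A (Set.range x) ⊔ limitFilt M L π (m + 1) := by
  obtain ⟨r, s, hs⟩ := Module.Finite.exists_fin (R := A) (M := M 0)
  choose x hx using fun i => limit_π_surjective 0 f hf π hlift (s i)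
  refine ⟨r, x, ?_⟩
  have h0 : Submodule.span A (Set.range x) ⊔ limitFilt M L π 1 = ⊤ := by
    have hmap : (Submodule.span A (Set.range x)).map (π 0) = ⊤ := by
      rw [Submodule.map_span, ← Set.range_comp, ← hs]
      congr 2
      funext i; exact hx i
    rw [limitFilt, ← Submodule.comap_map_eq, hmap, Submodule.comap_top]
  intro m
  cases m with
  | zero => simp [h0]
  | succ n =>
    refine (limitFilt_step I M f hf hker L π hπ hlift n).trans (sup_le ?_ le_sup_right)
    -- the `x i` generate modulo `limitFilt (n + 2)`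
    have hsur := limit_π_surjective (n + 1) f hf π hlift
    have hgen : Submodule.span A (Set.range x) ⊔ limitFilt M L π (n + 2) = ⊤ := by
      suffices hmap : (Submodule.span A (Set.range x)).map (π (n + 1)) = ⊤ by
        rw [limitFilt, ← Submodule.comap_map_eq, hmap, Submodule.comap_top]
      have hk := system_pow_smul_eq_bot I M f hf hker (n + 1)
      refine eq_top_of_sup_smul_eq_top (I := I) ?_ hk
      have hle : ∀ j, limitFilt M L π 1 ≤ I • ⊤ ⊔ limitFilt M L π (j + 1) := by
        intro j
        induction j with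
        | zero => exact le_sup_right
        | succ j ih =>
          refine ih.trans (sup_le le_sup_left
            ((limitFilt_step I M f hf hker L π hπ hlift j).trans (sup_le_sup_right ?_ _)))
          exact Submodule.smul_mono (Ideal.pow_le_self (by omega)) le_rfl
      have := h0.symm.le.trans (sup_le_sup_left (hle (n + 1)) _)
      have h2 := Submodule.map_mono (f := π (n + 1)) this
      rw [Submodule.map_top, LinearMap.range_eq_top.mpr hsur, Submodule.map_sup, Submodule.map_sup,
        Submodule.map_smul'', Submodule.map_top, LinearMap.range_eq_top.mpr hsur] at h2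
      have hbot : (limitFilt M L π (n + 1 + 1)).map (π (n + 1)) = ⊥ :=
        (map_eq_bot_iff_le_ker' _ _).mpr le_rfl
      rw [hbot, sup_bot_eq] at h2
      exact eq_top_iff.mpr h2
    conv_lhs => rw [← hgen]
    rw [Submodule.smul_sup]
    exact sup_le_sup_left Submodule.smul_le_right _

include hf hker hπ hinj hlift in
theorem limit_finite [IsAdicComplete I A] (h0 : Module.Finite A (M 0)) :
    Module.Finite A L ∧ IsAdicComplete I L ∧
      ∀ n, Function.Surjective (π n) ∧ LinearMap.ker (π n) = I ^ (n + 1) • (⊤ : Submodule A L) := by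
  obtain ⟨r, x, hx⟩ := limitFilt_step_span I M f hf hker L π hπ hlift
  obtain ⟨htop, heq⟩ := approx_filtration_eq (I := I) x (limitFilt M L π)
    (limitFilt_antitone M f L π hπ) (limitFilt_sep M L π hinj)
    (pow_smul_le_limitFilt I M f hf hker L π) hx rfl
  exact ⟨⟨⟨(Set.finite_range x).toFinset, by rw [Set.Finite.coe_toFinset]; exact htop⟩⟩,
    isAdicComplete_of_filt_eq I M f hf hker L π hπ hinj hlift heq,
    fun n => ⟨limit_π_surjective n f hf π hlift, heq (n + 1)⟩⟩

include hf hker hπ hinj hlift in
theorem limit_of_fg (hI : I.FG) :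
    IsAdicComplete I L ∧
      (∀ n, Function.Surjective (π n) ∧ LinearMap.ker (π n) = I ^ (n + 1) • (⊤ : Submodule A L)) ∧
      (IsAdicComplete I A → Module.Finite A (M 0) → Module.Finite A L) := by
  have hanti := limitFilt_antitone M f L π hπ
  have hle := pow_smul_le_limitFilt I M f hf hker L π
  have heq : ∀ m, limitFilt M L π m = I ^ m • ⊤ := by
    intro m
    cases m with
    | zero => simp [limitFilt]
    | succ n =>
      refine le_antisymm ?_ (hle _)
      obtain ⟨s, hs⟩ := (Ideal.FG.pow (n := n + 1) hI : (I ^ (n + 1)).FG)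
      intro y hy
      let P : ℕ → (↥(s : Set A) → L) → Prop := fun j a =>
        y - ∑ g : (s : Set A), (g : A) • a g ∈ limitFilt M L π (n + 1 + j)
      have step : ∀ j a, P j a → ∃ a', P (j + 1) a' ∧ ∀ g, a' g - a g ∈ limitFilt M L π j := by
        intro j a ha
        have h1 := limitFilt_step I M f hf hker L π hπ hlift (n + j)
          (show y - ∑ g : (s : Set A), (g : A) • a g ∈ _ from by
            rwa [show n + j + 1 = n + 1 + j by omega])
        obtain ⟨z, hz, w, hw, hzw⟩ := Submodule.mem_sup.mp h1
        have hz' : z ∈ (⨆ g : (s : Set A), (g : A) • (I ^ j • ⊤ : Submodule A L)) := by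
          have hz2 : z ∈ Ideal.span (s : Set A) • (I ^ j • ⊤ : Submodule A L) := by
            rw [show Ideal.span (s : Set A) = I ^ (n + 1) from hs, ← Submodule.mul_smul, ← pow_add,
              show n + 1 + j = n + j + 1 by omega]
            exact hz
          rw [Submodule.span_smul_eq, Submodule.set_smul_eq_iSup] at hz2
          simpa [iSup_subtype] using hz2
        obtain ⟨c, hc⟩ := (Submodule.mem_iSup_iff_exists_finsupp _ _).mp hz'
        have hcd : ∀ g : (s : Set A), ∃ d ∈ (I ^ j • ⊤ : Submodule A L), (g : A) • d = c g := fun g => by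
          have := hc.1 g
          rwa [← SetLike.mem_coe, Submodule.coe_pointwise_smul, Set.mem_smul_set] at this
        choose d hd hdc using hcd
        refine ⟨fun g => a g + d g, ?_, fun g => by simpa using hle j (hd g)⟩
        have : y - ∑ g : (s : Set A), (g : A) • (a g + d g) = w := by
          have hsum := hc.2
          rw [Finsupp.sum_fintype _ _ (by simp)] at hsum
          simp only [smul_add, Finset.sum_add_distrib, hdc, hsum]
          rw [← sub_sub, ← hzw]; abel
        show _ ∈ limitFilt M L π (n + 1 + (j + 1))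
        rw [this]
        rwa [show n + 1 + (j + 1) = n + j + 2 by omega]
      choose nxt hnxt hdiff using step
      let seq : ∀ j, {a : ↥(s : Set A) → L // P j a} := fun j =>
        Nat.rec (motive := fun j => {a : ↥(s : Set A) → L // P j a}) ⟨0, by simpa [P] using hy⟩
          (fun j a => ⟨nxt j a.1 a.2, hnxt j a.1 a.2⟩) j
      have hlim : ∀ g, ∃ a : L, ∀ j, a - (seq (j + 1)).1 g ∈ limitFilt M L π (j + 1) := fun g => by
        obtain ⟨a, ha⟩ := hlift (fun j => π j ((seq (j + 1)).1 g)) fun j => by
          rw [π_apply M f L π hπ]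
          exact sub_eq_zero.mp (by rw [← map_sub]; exact hdiff (j + 1) _ (seq (j + 1)).2 g)
        exact ⟨a, fun j => by rw [limitFilt, LinearMap.mem_ker, map_sub, ha, sub_self]⟩
      choose a ha using hlim
      have hya : y = ∑ g : (s : Set A), (g : A) • a g := by
        refine sub_eq_zero.mp (limitFilt_sep M L π hinj _ fun j => hanti (Nat.le_succ j) ?_)
        rw [show y - ∑ g : (s : Set A), (g : A) • a g =
          (y - ∑ g : (s : Set A), (g : A) • (seq (j + 1)).1 g) - ∑ g : (s : Set A), (g : A) • (a g - (seq (j + 1)).1 g) by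
            simp only [smul_sub, Finset.sum_sub_distrib]; abel]
        exact sub_mem (hanti (by omega) (seq (j + 1)).2)
          (Submodule.sum_mem _ fun g _ => Submodule.smul_mem _ _ (ha g j))
      rw [hya]
      exact Submodule.sum_mem _ fun g _ => Submodule.smul_mem_smul
        (by rw [← hs]; exact Submodule.subset_span g.2) Submodule.mem_top
  exact ⟨isAdicComplete_of_filt_eq I M f hf hker L π hπ hinj hlift heq,
    fun n => ⟨limit_π_surjective n f hf π hlift, heq (n + 1)⟩,
    fun _ h0 => (limit_finite I M f hf hker L π hπ hinj hlift h0).1⟩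

end CompleteLib
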